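import Cfsg.Agent.H869.EPO.GeoRGD
import Cfsg.Agent.H742.EX.Q2Grp
import Cfsg.Agent.H284.EPO.W3

/-!
# S5745, own characteristic, `q = 2`: `Sp_{2m}(2)`, the node of the points (helper781)

* `index_zero` : `|Y : P_{I - 0}| = 2 ^ (2 m) - 1` for root group data of type `B_m` with `|X_j| = 2`;
* `dead_zero` : the state `Q2` at the node 0 is impossible in an exceptional group.
-/

set_option autoImplicit false
set_option linter.unusedSectionVars false

namespace Cfsg.Agent.H781.EPO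

open Cfsg Cfsg.Agent.H284 Cfsg.Agent.H209.EPX Cfsg.Agent.H737.EPO Cfsg.Agent.H869.EPO Cfsg.Agent.H742.EX.Q2
open CoxeterSystem Cfsg.Agent.ChevalleyStructure.CoxeterGeom Cfsg.Agent.Tits.Roots Cfsg.Agent.Tits.Core
  Cfsg.Agent.Tits.RootComb Cfsg.Agent.Tits.Exchange Cfsg.Agent.Nodes.Reps Cfsg.Agent.Nodes.BNOf
  Cfsg.Agent.Nodes.StabComb Cfsg.Agent.Nodes.Bruhat Cfsg.Agent.Nodes.OppDec Cfsg.Agent.Nodes.LeviDec
  Cfsg.Agent.Nodes.Coroot Cfsg.Agent.KFacts.RgdPar Cfsg.Agent.KFacts.RgdSL Cfsg.Agent.KFacts.RgdVJ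
  Cfsg.Agent.KFacts.RgdCharP Cfsg.Agent.H965.XZ

theorem gs_two (n : ℕ) : gs 2 n + 1 = 2 ^ n := by
  unfold gs
  induction n with
  | zero => simp
  | succ n ih => rw [Finset.sum_range_succ, pow_succ]; omega

section

variable {m : ℕ} {W Y : Type*} [Group W] [Finite W] [Group Y] [Finite Y] {p : ℕ} {A : Fin m → Fin m → ℤ}
  {cs : CoxeterSystem (CoxeterMatrix.B m) W} {h : IsCartan (CoxeterMatrix.B m) A} {T : Subgroup Y} {n : Fin m → Y}
  {X : (Fin m → ℤ) → Subgroup Y}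

/-- the number of points -/
theorem index_zero (R : RGD cs h p T n X) (hG : GG cs h T X = ⊤) (hq : ∀ j, Nat.card (X (sr j)) = 2) {i : Fin m}
    (hi : (i : ℕ) = 0) : (PJ cs h T X {i}ᶜ).index + 1 = 2 ^ (2 * m) := by
  have hm : 1 ≤ m := by have := i.2; omega
  have h1 := index_B R hG (y := 2) (z := 2) (fun j _ => hq j) (fun j _ => hq j) (a := 1) le_rfl hm
  have e : {j : Fin m | (j : ℕ) + 1 ≠ 1} = {i}ᶜ := by
    ext j
    rw [Set.mem_compl_iff, Set.mem_singleton_iff, Set.mem_ofPred_eq, Fin.ext_iff, hi]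
    omega
  rw [e] at h1
  simp only [Finset.prod_range_one, Nat.add_zero, Nat.zero_add] at h1
  have h2 := gs_two m
  have h3 := gs_two 1
  have h4 : m - 1 + 1 = m := by omega
  rw [h4, ← pow_succ, h4] at h1
  have h5 : gs 2 1 = 1 := by omega
  rw [h5, mul_one] at h1
  rw [h1, two_mul, pow_add]
  have h6 : gs 2 m = 2 ^ m - 1 := by omega
  have h7 : 1 ≤ 2 ^ m := Nat.one_le_two_pow
  rw [h6]
  obtain ⟨c, hc⟩ : ∃ c, 2 ^ m = c + 1 := ⟨2 ^ m - 1, by omega⟩
  rw [hc, Nat.add_sub_cancel]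
  ring

end

/-- **The state `Q2` at the node of the points.** -/
theorem dead_zero {W G Y : Type} [Group W] [Finite W] [Group Y] [Finite Y] [Group G] [Finite G] {m : ℕ}
    {A : Fin m → Fin m → ℤ} {cs : CoxeterSystem (CoxeterMatrix.B m) W} {h : IsCartan (CoxeterMatrix.B m) A}
    {T : Subgroup Y} {n : Fin m → Y} {X : (Fin m → ℤ) → Subgroup Y} (R : RGD cs h 2 T n X)
    (hBT : BT cs h 2 T X) (hGG : GG cs h T X = ⊤) (hX : RGD.Sup X {x | IsRoot cs h x} = ⊤)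
    (hconn : Conn (CoxeterMatrix.B m)) [IsSimpleGroup Y] (hY : ∃ a b : Y, a * b ≠ b * a) {H N R' : Subgroup G}
    {e : N ≃* (Fin 1 → Y)} {i : Fin m} {t : G} [Fact (Nat.Prime 2)]
    (q : Q2 H R' e (ofRGD R hBT hGG hX hconn) i t) (hq : ∀ j, Nat.card (X (sr j)) = 2) (hi : (i : ℕ) = 0)
    {F : Fam} {f : ℕ} (hok : okF F f = true) (hG : IsOrd F f G) {e₂ : N ≃* (Fin 1 → Y)} (hE : EPS H N e₂) {K : Type} [Field K] [Fintype K]
    (hK : Fintype.card K = 2) (hm : 3 ≤ m) (g : Y ≃* PSp m K) : False := by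
  have h1 : ({i} : Set (Fin m)) ≠ Set.univ := by
    intro e1
    have h2 : (⟨1, by omega⟩ : Fin m) ∈ ({i} : Set (Fin m)) := by rw [e1]; trivial
    rw [Set.mem_singleton_iff, Fin.ext_iff] at h2
    simp only at h2
    omega
  have h2 := index_le_of R hBT hGG hX hconn hY q h1 (TThree.w3_B h (by omega) hi)
  exact dead_psp hok hG hE hK hm g (index_zero R hGG hq hi).le h2

end Cfsg.Agent.H781.EPO
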